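import Cfsg.Agent.H774.K0.Prime
import Cfsg.Agent.H657.PrinQuot
import Cfsg.Agent.H970.CycOne2
import Cfsg.Agent.H657.BrauerFeit
import Cfsg.Agent.S4888

/-!
# S4880: the count of the characters of height zero in the principal block (helper741)

* `kz` : the number of characters of height zero of the principal block; `Goal` : the statement of S4880;
* `goal_small` : `Goal` if `p ≤ 5` or `p²` does not divide the group order;
* `kz_eq_card` : `k₀(B₀) = k(B₀)` if the Sylow `p`-subgroups have order `p²`.
-/

set_option autoImplicit false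

open Cfsg

namespace Cfsg.Agent.H741.One

/-- All nontrivial `p`-elements are conjugate. -/
def OneC (p : ℕ) (G : Type*) [Group G] : Prop :=
  ∀ x y : G, x ≠ 1 → y ≠ 1 → (∃ k : ℕ, orderOf x = p ^ k) → (∃ k : ℕ, orderOf y = p ^ k) → IsConj x y

/-- The number of characters of height zero in the principal block. -/
noncomputable def kz (p : ℕ) (M : Ideal AlgInt) (G : Type*) [Group G] : ℕ :=
  Nat.card {χ : IrrCharacter G // χ ∈ principalBlock M G ∧ blockHeight p (principalBlock M G) (χ : G → ℂ) = 0}

/-- The statement of S4880. -/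
def Goal (p : ℕ) (M : Ideal AlgInt) (G : Type*) [Group G] : Prop :=
  p ≤ kz p M G ∨ (p = 11 ∧ kz p M G = 10)

section

variable {G : Type*} [Group G] {p : ℕ} {M : Ideal AlgInt}

theorem goal_of_le (h : p ≤ kz p M G) : Goal p M G := Or.inl h

theorem goal_of_ten (h11 : p = 11) (h : 10 ≤ kz p M G) : Goal p M G := by
  rcases Nat.lt_or_ge 10 (kz p M G) with h1 | h1
  · left
    omega
  · right
    exact ⟨h11, by omega⟩

theorem blockDefect_le (B : Set (IrrCharacter G)) : blockDefect p B ≤ (Nat.card G).factorization p :=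
  Nat.sub_le _ _

/-- `p = 2` -/
theorem two_le [Finite G] (hM : IsPModular 2 M) (hdiv : 2 ∣ Nat.card G) : 2 ≤ H774.K0.k0 2 M G :=
  Nat.le_of_dvd (H774.K0.k0_pos hM) (H774.K0.even_k0 hM hdiv)

end

variable {G : Type*} [Group G] [Finite G] {p : ℕ} [hp : Fact p.Prime] {M : Ideal AlgInt}

theorem kz_eq (hM : IsPModular p M) : kz p M G = H774.K0.k0 p M G := by
  unfold kz H774.K0.k0
  refine Nat.card_congr (Equiv.subtypeEquivRight fun χ => ?_)
  rw [S4888.blockHeight_principal p hM, Nat.factorization_eq_zero_iff]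
  obtain ⟨-, hd0, -⟩ := S0914.degree_spec χ
  have h1 := hp.out
  have h2 := hd0.ne'
  constructor
  · rintro ⟨h3, h4 | h4 | h4⟩
    · exact absurd h1 h4
    · exact ⟨h3, h4⟩
    · exact absurd h4 h2
  · rintro ⟨h3, h4⟩
    exact ⟨h3, Or.inr (Or.inl h4)⟩

/-- `S4880` if `p ≤ 5` or `p²` does not divide the group order. -/
theorem goal_small (hM : IsPModular p M) (hdiv : p ∣ Nat.card G) (hconj : OneC p G)
    (hs : ¬ (7 ≤ p ∧ p ^ 2 ∣ Nat.card G)) : Goal p M G := by
  have hp' := hp.out
  apply goal_of_le
  rcases hp'.eq_two_or_odd' with h2 | hodd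
  · subst h2
    rw [kz_eq hM]
    exact two_le hM hdiv
  by_cases h : p ^ 2 ∣ Nat.card G
  · have h7 : p < 7 := by
      by_contra h7
      exact hs ⟨by omega, h⟩
    have h6 := H774.K0.six_le_card (G := G) (p := p) (by rintro rfl; exact absurd hodd (by decide)) hM h
    rw [kz_eq hM]
    refine le_trans ?_ h6
    omega
  · obtain ⟨P⟩ : Nonempty (Sylow p G) := inferInstance
    have hP : Nat.card (P : Subgroup G) = p := by
      have h1 : p ∣ Nat.card (P : Subgroup G) := P.dvd_card_of_dvd_card hdiv
      obtain ⟨n, hn⟩ := IsPGroup.iff_card.1 P.isPGroup'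
      rw [hn] at h1 ⊢
      have h2 : n < 2 := by
        by_contra h2
        apply h
        refine dvd_trans (pow_dvd_pow p (by omega : 2 ≤ n)) ?_
        rw [← hn]
        exact Subgroup.card_subgroup_dvd_card _
      interval_cases n
      · rw [pow_zero, Nat.dvd_one] at h1
        exact absurd h1 hp'.ne_one
      · exact pow_one p
    have h1 := H970.CycOne.card_height_zero p P hP M hM (H970.CycOne.relIndex_eq p P hP hconj)
    exact h1.ge

/-- `k₀(B₀) = k(B₀)` if the Sylow `p`-subgroups have order `p²`. -/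
theorem kz_eq_card (hM : IsPModular p M) (h2 : (Nat.card G).factorization p = 2) :
    kz p M G = Nat.card (principalBlock M G) := by
  have := Fintype.ofFinite G
  refine Nat.card_congr (Equiv.subtypeEquivRight fun χ => ⟨fun h => h.1, fun h => ⟨h, ?_⟩⟩)
  rcases Nat.eq_zero_or_pos (blockHeight p (principalBlock M G) (χ : G → ℂ)) with h0 | h0
  · exact h0
  · have h1 := H657.BrauerFeit.height_add_two_le hM Cfsg.Agent.Blocks.PrincipalSection.isPBlock_principalBlock h h0
    have h3 := blockDefect_le (p := p) (principalBlock M G)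
    omega

end Cfsg.Agent.H741.One
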