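import Cfsg.Agent.H741.One.Count
import Cfsg.Agent.H741.One.Index
import Cfsg.Agent.H697.OneClass
import Cfsg.Prelude.Def_Transfer
import Cfsg.Prelude.Def_LieTwisted

/-!
# S4880: reduction and assembly (helper741)

`goal_of_rows` : the statement of S4880 from
* `RowEA` : S4605 for `p ≥ 7`;
* `RowCls` : the classification half (`H319.One.main`);
* `RowPS` : `p`-solvable groups; `RowPSL` : `PSL₂(pⁿ)`; `RowBlk` : the block half (`H634.OneP.main`); `RowF4` : `²F₄(q)`.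
-/

set_option autoImplicit false

namespace Cfsg.Agent.H741.One

open Cfsg Subgroup Cfsg.Agent.H319.One

universe u

/-- The outcome of the classification half (same as `H319.One.Outcome`). -/
def Out4 (p n : ℕ) (S : Type u) [Group S] : Prop :=
  (∃ (F : Type) (_ : Field F) (_ : Fintype F), Fintype.card F = p ^ n ∧
    Nonempty (S ≃* Matrix.ProjectiveSpecialLinearGroup (Fin 2) F)) ∨
  (p = 7 ∧ n = 2 ∧ Loc 7 3 S) ∨ (p = 11 ∧ n = 2 ∧ Loc 11 5 S) ∨
  (p = 11 ∧ n = 2 ∧ Lie.Iso2F4 S ∧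
    ∀ x g : S, orderOf x = 11 → ∀ j : ℕ, (j = 3 ∨ j = 4 ∨ j = 5 ∨ j = 9) → g * x * g⁻¹ ≠ x ^ j)

def RowEA (p : ℕ) : Prop :=
  ∀ (G : Type u) [Group G] [Finite G], OneC p G → ∀ P : Sylow p G, IsElementaryAbelian p (P : Subgroup G)

def RowCls (p : ℕ) : Prop :=
  ∀ (S : Type u) [Group S] [Finite S] [IsSimpleGroup S] (n : ℕ), Hyp p n S → Out4 p n S

def RowPS (p : ℕ) (M : Ideal AlgInt) : Prop :=
  ∀ (G : Type u) [Group G] [Finite G], IsPSolvable p G → pPrimeCore p G = ⊥ → p ^ 2 ∣ Nat.card G → OneC p G →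
    Goal p M G

def RowPSL (p : ℕ) (M : Ideal AlgInt) : Prop :=
  ∀ (G : Type u) [Group G] [Finite G] (T : Subgroup G) [T.Normal],
    (∀ g : G, (∀ t ∈ T, Commute g t) → g = 1) → (∀ x : G, (∃ k : ℕ, orderOf x = p ^ k) → x ∈ T) →
    ∀ (F : Type) [Field F] [Fintype F] (n : ℕ), Fintype.card F = p ^ n → 2 ≤ n →
      Nonempty (↥T ≃* Matrix.ProjectiveSpecialLinearGroup (Fin 2) F) → p ≤ kz p M G

def RowBlk (p : ℕ) (M : Ideal AlgInt) : Prop :=
  ∀ (G : Type u) [Group G] [Finite G] (P : Sylow p G), Nat.card P = p ^ 2 → (∀ x ∈ (P : Subgroup G), x ^ p = 1) →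
    ∀ x : G, x ∈ (P : Subgroup G) → x ≠ 1 → ∀ e : ℕ,
      e = (centralizer ((P : Subgroup G) : Set G)).relIndex
        (normalizer ((P : Subgroup G) : Set G) ⊓ centralizer ({x} : Set G)) → p - 1 ≤ 2 * e →
      2 * e ≤ Nat.card (principalBlock M G) ∧
        (p % 4 = 3 → Odd e → Nat.card (principalBlock M G) ≠ 2 * e)

def RowF4 (p : ℕ) (M : Ideal AlgInt) : Prop :=
  p = 11 → ∀ (G : Type u) [Group G] [Finite G], OneC p G → ∀ (T : Subgroup G) [T.Normal],
    (∀ g : G, (∀ t ∈ T, Commute g t) → g = 1) → (∀ x : G, (∃ k : ℕ, orderOf x = p ^ k) → x ∈ T) →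
    (∀ P : Sylow p G, Nat.card P = p ^ 2) → Lie.Iso2F4 ↥T →
    (∀ x g : ↥T, orderOf x = p → ∀ j : ℕ, (j = 3 ∨ j = 4 ∨ j = 5 ∨ j = 9) → g * x * g⁻¹ ≠ x ^ j) →
    10 ≤ Nat.card (principalBlock M G)

variable {p : ℕ} [hp : Fact p.Prime] {M : Ideal AlgInt}

theorem isPElt {G : Type*} [Group G] {Q : Subgroup G} (hQ : IsPGroup p ↥Q) {x : G} (hx : x ∈ Q) :
    ∃ k : ℕ, orderOf x = p ^ k := by
  obtain ⟨k, hk⟩ := IsPGroup.iff_orderOf.1 hQ ⟨x, hx⟩
  exact ⟨k, by rw [← hk, ← Subgroup.orderOf_coe]⟩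

/-- The hypothesis of the classification half. -/
theorem hyp_of {G : Type u} [Group G] [Finite G] (h7 : 7 ≤ p) (hp2 : p ^ 2 ∣ Nat.card G) (hconj : OneC p G)
    (hEA : ∀ P : Sylow p G, IsElementaryAbelian p (P : Subgroup G)) (T : Subgroup G) [T.Normal]
    (hTp : ∀ x : G, (∃ k : ℕ, orderOf x = p ^ k) → x ∈ T) :
    Hyp p ((Nat.card G).factorization p) ↥T := by
  have hp' := hp.out
  have hG0 : Nat.card G ≠ 0 := Nat.card_pos.ne'
  have hT0 : Nat.card ↥T ≠ 0 := Nat.card_pos.ne'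
  have hle : ∀ P : Sylow p G, (P : Subgroup G) ≤ T := fun P x hx => hTp x (isPElt P.isPGroup' hx)
  have hpow : ∀ (x : G) (k : ℕ), x ^ p ^ k = 1 → x ^ p = 1 := by
    intro x k hk
    have h1 : IsPGroup p ↥(zpowers x) := by
      obtain ⟨m, -, hm⟩ := (Nat.dvd_prime_pow hp').1 (orderOf_dvd_of_pow_eq_one hk)
      exact IsPGroup.of_card (n := m) (by rw [Nat.card_zpowers, hm])
    obtain ⟨P, hP⟩ := h1.exists_le_sylow
    exact (hEA P).2 x (hP (mem_zpowers x))
  refine ⟨by omega, ?_, fun h => by omega, ?_, ?_, ?_, ?_⟩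
  · exact (hp'.pow_dvd_iff_le_factorization hG0).1 hp2
  · intro x y hx hy
    have hx' : orderOf (x : G) = p := by rw [Subgroup.orderOf_coe, hx]
    have hy' : orderOf (y : G) = p := by rw [Subgroup.orderOf_coe, hy]
    have hne : ∀ z : G, orderOf z = p → z ≠ 1 := by
      rintro z hz rfl
      rw [orderOf_one] at hz
      exact hp'.ne_one hz.symm
    obtain ⟨g, hg⟩ := isConj_iff.1 (hconj x y (hne _ hx') (hne _ hy') ⟨1, by rw [pow_one, hx']⟩
      ⟨1, by rw [pow_one, hy']⟩)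
    refine ⟨MulAut.conjNormal g, Subtype.ext ?_⟩
    rw [MulAut.conjNormal_apply, hg]
  · intro P
    have h1 : Nat.card ↥(P : Subgroup ↥T) = p ^ (Nat.card ↥T).factorization p := P.card_eq_multiplicity
    rw [h1]
    congr 1
    obtain ⟨Q⟩ : Nonempty (Sylow p G) := inferInstance
    have h2 : Nat.card ↥(Q : Subgroup G) = p ^ (Nat.card G).factorization p := Q.card_eq_multiplicity
    apply le_antisymm
    · exact (Nat.factorization_le_iff_dvd hT0 hG0).2 (Subgroup.card_subgroup_dvd_card T) p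
    · rw [← hp'.pow_dvd_iff_le_factorization hT0, ← h2]
      exact Subgroup.card_dvd_of_le (hle Q)
  · intro Q hQ a ha b hb
    obtain ⟨P, hP⟩ := (hQ.map T.subtype).exists_le_sylow
    have h1 := (hEA P).1
    have h2 := h1.is_comm.comm ⟨(a : G), hP ⟨a, ha, rfl⟩⟩ ⟨(b : G), hP ⟨b, hb, rfl⟩⟩
    have h3 : (a : G) * (b : G) = (b : G) * (a : G) := congrArg Subtype.val h2
    exact Subtype.ext h3
  · intro x k hx
    have h1 : (x : G) ^ p ^ k = 1 := congrArg Subtype.val hx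
    exact Subtype.ext (hpow x k h1)

/-- the cases `p = 7`, `p = 11` with a large automizer -/
theorem goal_of_loc {G : Type u} [Group G] [Finite G] (hM : IsPModular p M) (hBlk : RowBlk.{u} p M)
    (hEA : ∀ P : Sylow p G, IsElementaryAbelian p (P : Subgroup G)) (h2 : (Nat.card G).factorization p = 2)
    {e0 : ℕ} (hL : Loc p e0 G) (hc : (p = 7 ∧ e0 = 3) ∨ (p = 11 ∧ e0 = 5)) : Goal p M G := by
  have hcard : ∀ P : Sylow p G, Nat.card ↥(P : Subgroup G) = p ^ 2 := fun P => by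
    rw [← h2]
    exact P.card_eq_multiplicity
  obtain ⟨P, x, hx, hx1, hdvd⟩ := exists_of_loc hcard hL
  have hpos : (centralizer ((P : Subgroup G) : Set G)).relIndex
      (normalizer ((P : Subgroup G) : Set G) ⊓ centralizer ({x} : Set G)) ≠ 0 := by
    rw [relIndex]
    exact Subgroup.index_ne_zero_of_finite
  set e := (centralizer ((P : Subgroup G) : Set G)).relIndex
      (normalizer ((P : Subgroup G) : Set G) ⊓ centralizer ({x} : Set G)) with he
  have h3 : e0 ≤ e := Nat.le_of_dvd (Nat.pos_of_ne_zero hpos) hdvd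
  have h4 : p - 1 ≤ 2 * e := by
    rcases hc with ⟨rfl, rfl⟩ | ⟨rfl, rfl⟩ <;> omega
  obtain ⟨h5, h6⟩ := hBlk G P (hcard P) (hEA P).2 x hx hx1 e he h4
  have hk := kz_eq_card (G := G) hM h2
  rcases hc with ⟨rfl, rfl⟩ | ⟨rfl, rfl⟩
  · apply goal_of_le
    rw [hk]
    rcases Nat.lt_or_ge 3 e with h7 | h7
    · omega
    · have h8 : e = 3 := le_antisymm h7 h3
      have h9 := h6 (by norm_num) (by rw [h8]; decide)
      omega
  · apply goal_of_ten rfl
    rw [hk]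
    omega

/-- the almost simple case -/
theorem goal_as {G : Type u} [Group G] [Finite G] (hM : IsPModular p M) (h7 : 7 ≤ p) (hp2 : p ^ 2 ∣ Nat.card G)
    (hconj : OneC p G) (hEA : RowEA.{u} p) (hCls : RowCls.{u} p) (hPSL : RowPSL.{u} p M) (hBlk : RowBlk.{u} p M)
    (hF4 : RowF4.{u} p M) (hns : ¬ IsPSolvable p G) (hcore : pPrimeCore p G = ⊥) : Goal p M G := by
  obtain ⟨T, hTn, hTs, hTc, hTC, hTp⟩ := H697.OneClass.almost_simple hns hcore hconj
  have hyp := hyp_of h7 hp2 hconj (hEA G hconj) T hTp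
  rcases hCls ↥T _ hyp with ⟨F, i1, i2, hF, e⟩ | ⟨hp7, hn, hL⟩ | ⟨hp11, hn, hL⟩ | ⟨hp11, hn, hI, hj⟩
  · exact goal_of_le (hPSL G T hTC hTp F _ hF hyp.two e)
  · subst hp7
    exact goal_of_loc hM hBlk (hEA G hconj) hn (Loc.of_subgroup hL) (Or.inl ⟨rfl, rfl⟩)
  · subst hp11
    exact goal_of_loc hM hBlk (hEA G hconj) hn (Loc.of_subgroup hL) (Or.inr ⟨rfl, rfl⟩)
  · subst hp11
    apply goal_of_ten rfl
    rw [kz_eq_card hM hn]
    refine hF4 rfl G hconj T hTC hTp (fun P => ?_) hI hj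
    rw [← hn]
    exact P.card_eq_multiplicity

/-- **S4880 from the rows.** -/
theorem goal_of_rows {G : Type u} [Group G] [Finite G] (hM : IsPModular p M) (hdiv : p ∣ Nat.card G)
    (hconj : OneC p G) (hEA : 7 ≤ p → RowEA.{u} p) (hCls : RowCls.{u} p) (hPS : 7 ≤ p → RowPS.{u} p M)
    (hPSL : 7 ≤ p → RowPSL.{u} p M) (hBlk : 7 ≤ p → RowBlk.{u} p M) (hF4 : RowF4.{u} p M) : Goal p M G := by
  by_cases h : 7 ≤ p ∧ p ^ 2 ∣ Nat.card G
  swap
  · exact goal_small hM hdiv hconj h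
  obtain ⟨h7, hp2⟩ := h
  have hcop := Lib.Cores.pPrimeCore_coprime (G := G) p
  have hN : ¬ p ∣ Nat.card ↥(pPrimeCore p G) := (Nat.Prime.coprime_iff_not_dvd hp.out).1 hcop.symm
  have hnn : (pPrimeCore p G).Normal := Lib.Cores.pPrimeCore_normal p
  have hf : Function.Surjective (QuotientGroup.mk' (pPrimeCore p G)) := QuotientGroup.mk'_surjective _
  have hk : kz p M G = kz p M (G ⧸ pPrimeCore p G) := H657.PrinQuot.card_height_eq hM (pPrimeCore p G) hN
  have hc' : OneC p (G ⧸ pPrimeCore p G) := H697.PSolvA.hconj_map _ hf hconj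
  have h2' : p ^ 2 ∣ Nat.card (G ⧸ pPrimeCore p G) := by
    have h1 := Subgroup.card_eq_card_quotient_mul_card_subgroup (pPrimeCore p G)
    rw [h1] at hp2
    exact (Nat.Coprime.pow_left 2 ((Nat.Prime.coprime_iff_not_dvd hp.out).2 hN)).dvd_of_dvd_mul_right hp2
  have hco' := Lib.Cores.pPrimeCore_quotient_pPrimeCore (G := G) p
  have key : Goal p M (G ⧸ pPrimeCore p G) := by
    by_cases hs : IsPSolvable p (G ⧸ pPrimeCore p G)
    · exact hPS h7 _ hs hco' h2' hc'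
    · exact goal_as hM h7 h2' hc' (hEA h7) hCls (hPSL h7) (hBlk h7) hF4 hs hco'
  unfold Goal at key ⊢
  rw [hk]
  exact key

end Cfsg.Agent.H741.One
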